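import Groth.Agent.H11PushDepth.Depth
import Groth.Agent.H29Ref.DepthCriterion
import Groth.Agent.H29Ref.BigOpen

/-!
# Uniqueness of the depth-two extension across a closed subset
-/

set_option autoImplicit false
set_option linter.style.haveILetI false
set_option backward.isDefEq.respectTransparency false

universe u

open CategoryTheory CategoryTheory.Limits AlgebraicGeometry

namespace Groth.Agent.H4PushUniv

variable {X : Scheme.{u}} [IsNoetherian X] (U : X.Opens)

theorem notMem_range {x : X} (hx : x ∉ U) : x ∉ Set.range U.ι := by rwa [Scheme.Opens.range_ι]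

theorem two_le_depth (F : X.Modules) (hF' : Coh.IsCoh ((Coh.push U.ι).obj (F.restrict U.ι))) (x : X) (hx : x ∉ U) :
    (2 : ℕ∞) ≤ LocCoh.depth (X.presheaf.stalk x)
      (((Coh.push U.ι).obj (F.restrict U.ι)).presheaf.stalk x) := by
  haveI := H29Ref.finite_stalk ((Coh.push U.ι).obj (F.restrict U.ι)) hF'.2 x
  exact H11PushDepth.two_le_depth_of_notMem U.ι (F.restrict U.ι) (notMem_range U hx)

theorem not_isAssPoint (H : (U : Scheme.{u}).Modules) (x : X) (hx : x ∉ U) :
    ¬ Curv2.IsAssPoint ((Scheme.Modules.pushforward U.ι).obj H) x := by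
  intro hass
  obtain ⟨hp, t, ht⟩ := isAssociatedPrime_iff.mp hass
  refine hp.ne_top ?_
  have h0 : t = 0 := H11PushDepth.eq_zero_of_killed U.ι H (notMem_range U hx) t fun a ha =>
    (Submodule.mem_bot _).1 (Submodule.mem_colon_singleton.1 (ht.le ha))
  rw [ht, h0, Ideal.eq_top_iff_one, Submodule.mem_colon_singleton, Submodule.mem_bot, smul_zero]

theorem isIso_unit (G : X.Modules) (hG : Coh.IsCoh G)
    (hd : ∀ x : X, x ∉ U → (2 : ℕ∞) ≤ LocCoh.depth (X.presheaf.stalk x) (G.presheaf.stalk x)) :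
    IsIso ((Scheme.Modules.restrictAdjunction U.ι).unit.app G) := by
  haveI : G.IsQuasicoherent := hG.1
  haveI : (G.restrict U.ι).IsQuasicoherent := Scheme.Modules.isQuasicoherent_restrictFunctor _ G
  have hq : Coh.IsQCoh ((Scheme.Modules.pushforward U.ι).obj (G.restrict U.ι)) :=
    H10Coh.isQuasicoherent_pushforward U.ι _
  let η := (Scheme.Modules.restrictAdjunction U.ι).unit.app G
  refine H29Ref.isIso_of_depth_two η hG hq fun x => ?_
  by_cases hx : x ∈ U
  · left
    show Function.Bijective ((Scheme.Modules.toPresheaf X ⋙ TopCat.Presheaf.stalkFunctor Ab.{u} x).map η)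
    refine (ConcreteCategory.isIso_iff_bijective _).1 ?_
    refine (NatIso.isIso_map_iff (Scheme.Modules.restrictStalkNatIso U.ι ⟨x, hx⟩) η).1 ?_
    haveI : IsIso ((Scheme.Modules.restrictFunctor U.ι).map η) := by
      haveI : IsIso ((Scheme.Modules.restrictFunctor U.ι).map η ≫
          (Scheme.Modules.restrictAdjunction U.ι).counit.app ((Scheme.Modules.restrictFunctor U.ι).obj G)) := by
        rw [show (Scheme.Modules.restrictFunctor U.ι).map η ≫
            (Scheme.Modules.restrictAdjunction U.ι).counit.app ((Scheme.Modules.restrictFunctor U.ι).obj G) = 𝟙 _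
          from (Scheme.Modules.restrictAdjunction U.ι).left_triangle_components G]
        infer_instance
      exact IsIso.of_isIso_comp_right _ ((Scheme.Modules.restrictAdjunction U.ι).counit.app _)
    exact Functor.map_isIso (Scheme.Modules.toPresheaf (U : Scheme.{u}) ⋙
      TopCat.Presheaf.stalkFunctor Ab.{u} (⟨x, hx⟩ : (U : Scheme.{u})))
      ((Scheme.Modules.restrictFunctor U.ι).map η)
  · exact Or.inr ⟨hd x hx, not_isAssPoint U _ x hx⟩

theorem existsUnique (F G : X.Modules) (hG : Coh.IsCoh G) (φ : F ⟶ G)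
    [hφ : IsIso ((Scheme.Modules.restrictFunctor U.ι).map φ)]
    (hd : ∀ x : X, x ∉ U → (2 : ℕ∞) ≤ LocCoh.depth (X.presheaf.stalk x) (G.presheaf.stalk x)) :
    (∃! ψ : G ⟶ (Coh.push U.ι).obj (F.restrict U.ι),
        φ ≫ ψ = (Scheme.Modules.restrictAdjunction U.ι).unit.app F) ∧
      ∀ ψ : G ⟶ (Coh.push U.ι).obj (F.restrict U.ι),
        φ ≫ ψ = (Scheme.Modules.restrictAdjunction U.ι).unit.app F → IsIso ψ := by
  haveI := isIso_unit U G hG hd
  let adj := Scheme.Modules.restrictAdjunction U.ι
  let ψ₀ : G ⟶ (Coh.push U.ι).obj (F.restrict U.ι) :=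
    adj.unit.app G ≫ (Scheme.Modules.pushforward U.ι).map (inv ((Scheme.Modules.restrictFunctor U.ι).map φ))
  have h₀ : φ ≫ ψ₀ = adj.unit.app F := by
    show φ ≫ adj.unit.app G ≫ _ = _
    rw [← Category.assoc, show φ ≫ adj.unit.app G = adj.unit.app F ≫
      (Scheme.Modules.restrictFunctor U.ι ⋙ Scheme.Modules.pushforward U.ι).map φ from adj.unit.naturality φ,
      Category.assoc, Functor.comp_map, ← Functor.map_comp, IsIso.hom_inv_id, CategoryTheory.Functor.map_id]
    exact Category.comp_id _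
  have huniq : ∀ ψ : G ⟶ (Coh.push U.ι).obj (F.restrict U.ι), φ ≫ ψ = adj.unit.app F → ψ = ψ₀ := fun ψ hψ => by
    refine (adj.homEquiv G _).symm.injective ?_
    have h := congrArg (adj.homEquiv F _).symm (hψ.trans h₀.symm)
    rw [Adjunction.homEquiv_naturality_left_symm, Adjunction.homEquiv_naturality_left_symm] at h
    exact (cancel_epi _).1 h
  exact ⟨⟨ψ₀, h₀, huniq⟩, fun ψ hψ => huniq ψ hψ ▸ (inferInstanceAs (IsIso ψ₀))⟩

end Groth.Agent.H4PushUniv
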